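import Groth.Agent.AlgSpBasic.FiltrationSpaces
import Groth.Agent.AlgSpBasic.FiltrationQS
import Groth.Agent.AlgSpBasic.Compact
import Groth.Agent.AlgSpBasic.IntegralCover
import Groth.Agent.AlgSpBasic.DecentFiniteFibre

/-!
# Quasi-compact opens of a quasi-compact quasi-separated space built by affine etale charts
-/

set_option autoImplicit false
set_option backward.isDefEq.respectTransparency.types false
set_option linter.style.haveILetI false
universe u

open CategoryTheory CategoryTheory.Limits AlgebraicGeometry Topology TopologicalSpace Opposite AlgSp Groth.AlgSpBasic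

namespace Groth.AlgSp2.Induction

variable {S : Scheme.{u}} {X : Sp S}

/-- Over the subset `K` two lifts along `g` agree. -/
def UniqueOver {V : Over S} (g : (yon S).obj V ⟶ X) (K : Set (AlgSp.Points X)) : Prop :=
  ∀ ⦃T : Over S⦄ (v v' : T ⟶ V), (yon S).map v ≫ g = (yon S).map v' ≫ g →
    (∀ t, AlgSp.Points.ofPt ((yon S).map v ≫ g) t ∈ K) → v = v'

theorem UniqueOver.mono {V : Over S} {g : (yon S).obj V ⟶ X} {K K' : Set (AlgSp.Points X)}
    (h : UniqueOver g K) (hK : K' ⊆ K) : UniqueOver g K' :=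
  fun _ v v' e ht => h v v' e fun t => hK (ht t)

theorem isCompact_range_ofPt {V : Over S} [CompactSpace ↥V.left] {g : (yon S).obj V ⟶ X}
    (hg : RepWith @Etale g) : IsCompact (Set.range (AlgSp.Points.ofPt g)) :=
  isCompact_range (AlgSp.Points.continuous_ofPt g)

theorem isOpen_range_ofPt {V : Over S} {g : (yon S).obj V ⟶ X} (hg : RepWith @Etale g) :
    IsOpen (Set.range (AlgSp.Points.ofPt g)) := (isOpenMap_ofPt_of_etale hg).isOpen_range

/-- On a quasi-separated space, preimages of compact opens in affine charts are compact. -/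
theorem isCompact_preimage_ofPt [QuasiSeparatedSpace ↥S] (hX : IsAlgSpace X) (hqs : IsQuasiSeparatedSp X)
    {D : Set (AlgSp.Points X)} (hDc : IsCompact D) (hDo : IsOpen D) {V : Over S} [IsAffine V.left]
    (g : (yon S).obj V ⟶ X) : IsCompact (AlgSp.Points.ofPt g ⁻¹' D) := by
  obtain ⟨U, p, he, hs⟩ := hX.atlas
  have hsub : ∀ x ∈ D, ∃ O : U.left.Opens, IsAffineOpen O ∧ (∀ o ∈ O, AlgSp.Points.ofPt p o ∈ D) ∧
      x ∈ AlgSp.Points.ofPt p '' O := by
    intro x hx
    obtain ⟨u₀, rfl⟩ := surjective_ofPt_of_repWith hs x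
    obtain ⟨O, hO, huO, hle⟩ := exists_isAffineOpen_mem_and_subset (x := u₀)
      (U := (⟨AlgSp.Points.ofPt p ⁻¹' D, hDo.preimage (AlgSp.Points.continuous_ofPt p)⟩ : U.left.Opens)) hx
    exact ⟨O, hO, fun o ho => hle ho, u₀, huO, rfl⟩
  choose O hO hOD hxO using hsub
  obtain ⟨t, ht⟩ := hDc.elim_finite_subcover (fun x : D => AlgSp.Points.ofPt p '' (O x.1 x.2 : Set ↥U.left))
    (fun x => isOpenMap_ofPt_of_etale he _ (O x.1 x.2).isOpen) (fun x hx => Set.mem_iUnion.2 ⟨⟨x, hx⟩, hxO x hx⟩)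
  obtain ⟨R, r₁, r₂, sq⟩ := exists_pullback_of_diag hX.diag p g
  have hq : QuasiCompact r₁.left := repWith_fst_of_isPullback sq.flip (repWith_quasiCompact_of_qs hX hqs g)
  have e : AlgSp.Points.ofPt g ⁻¹' D = ⋃ x ∈ t, r₂.left '' (r₁.left ⁻¹' (O x.1 x.2 : Set ↥U.left)) := by
    ext v
    simp only [Set.mem_preimage, Set.mem_iUnion, Set.mem_image]
    constructor
    · intro hv
      obtain ⟨x, hx, o, ho, hov⟩ := Set.mem_iUnion₂.1 (ht hv)
      obtain ⟨z, hz₁, hz₂⟩ := (ofPt_eq_ofPt_iff sq o v).1 hov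
      exact ⟨x, hx, z, hz₁ ▸ ho, hz₂⟩
    · rintro ⟨x, -, z, hz, rfl⟩
      rw [← (ofPt_eq_ofPt_iff sq (r₁.left z) (r₂.left z)).2 ⟨z, rfl, rfl⟩]
      exact hOD x.1 x.2 _ hz
  rw [e]
  exact t.finite_toSet.isCompact_biUnion fun x _ =>
    ((QuasiCompact.isCompact_preimage _ (O x.1 x.2).isOpen (hO x.1 x.2).isCompact).image r₂.left.continuous)

/-- Induction over quasi-compact opens, enlarged one affine elementary chart at a time. -/
theorem induction_compactOpen [QuasiSeparatedSpace ↥S] (hX : IsAlgSpace X) (hqc : IsQuasiCompactSp X)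
    (hqs : IsQuasiSeparatedSp X) (Q : Set (AlgSp.Points X) → Prop) (D₀ : Set (AlgSp.Points X))
    (hD₀c : IsCompact D₀) (hD₀o : IsOpen D₀) (h0 : Q D₀)
    (step : ∀ (D : Set (AlgSp.Points X)) (V : Over S) (g : (yon S).obj V ⟶ X), IsAffine V.left →
      RepWith @Etale g → IsCompact D → IsOpen D → D₀ ⊆ D → UniqueOver g Dᶜ → Q D →
      Q (D ∪ Set.range (AlgSp.Points.ofPt g))) : Q Set.univ := by
  obtain ⟨U, a, hU, ha, hs⟩ := exists_affine_chart hX hqc
  have hqa := repWith_quasiCompact_of_qs hX hqs a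
  obtain ⟨N, hN⟩ := exists_degFibresLE_of_qs hX hqs ha
  suffices h : ∀ m n : ℕ, m + n = N → ∃ E : Set (AlgSp.Points X), E = D₀ ∪ confSet a (n + 1) ∧
      IsCompact E ∧ IsOpen E ∧ Q E by
    obtain ⟨E, rfl, -, -, hE⟩ := h N 0 (add_zero N)
    rwa [confSet_one (fun x => surjective_ofPt_of_repWith hs x), Set.union_univ] at hE
  intro m
  induction m with
  | zero =>
    rintro n rfl
    exact ⟨D₀, by rw [zero_add] at hN; rw [confSet_eq_empty_of_degFibresLE hX ha hN, Set.union_empty],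
      hD₀c, hD₀o, h0⟩
  | succ m ih =>
    intro n hn
    obtain ⟨E, hE, hEc, hEo, hQE⟩ := ih (n + 1) (by omega)
    obtain ⟨Dn⟩ := exists_distinctSpace hX ha n
    obtain ⟨Qn⟩ := exists_unorderedSpace hX ha Dn
    have := Qn.compact hqa
    have huniq : UniqueOver Qn.f Eᶜ := fun T v v' e ht => Qn.eq_of_comp_eq e fun t hmem =>
      ht t (by rw [hE]; exact Or.inr hmem)
    let 𝒰 := Qn.V.left.affineCover
    obtain ⟨t, ht⟩ := (isCompact_univ : IsCompact (Set.univ : Set ↥Qn.V.left)).elim_finite_subcover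
      (fun i => ((𝒰.f i).opensRange : Set ↥Qn.V.left)) (fun i => (𝒰.f i).opensRange.isOpen)
      (fun v _ => Set.mem_iUnion.2 ⟨_, (𝒰.exists_eq v).choose_spec⟩)
    classical
    have key : ∀ s : Finset 𝒰.I₀, ∃ D : Set (AlgSp.Points X),
        D = E ∪ AlgSp.Points.ofPt Qn.f '' (⋃ i ∈ s, ((𝒰.f i).opensRange : Set ↥Qn.V.left)) ∧
        IsCompact D ∧ IsOpen D ∧ Q D := by
      intro s
      induction s using Finset.induction_on with
      | empty => exact ⟨E, by simp, hEc, hEo, hQE⟩
      | insert i s his ihs =>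
        obtain ⟨D, hD, hDc, hDo, hQD⟩ := ihs
        let O := Over.mk (𝒰.f i ≫ Qn.V.hom)
        let o : O ⟶ Qn.V := Over.homMk (𝒰.f i) rfl
        haveI : IsAffine O.left := inferInstanceAs (IsAffine (𝒰.X i))
        let g : (yon S).obj O ⟶ X := (yon S).map o ≫ Qn.f
        have hg : RepWith @Etale g :=
          repWith_comp ((repWith_yon_map_iff _ _).2 (inferInstanceAs (Etale (𝒰.f i)))) Qn.f_etale
        have hgr : Set.range (AlgSp.Points.ofPt g) =
            AlgSp.Points.ofPt Qn.f '' ((𝒰.f i).opensRange : Set ↥Qn.V.left) := by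
          ext x
          constructor
          · rintro ⟨z, rfl⟩
            exact ⟨(𝒰.f i) z, ⟨z, rfl⟩, (ofPt_comp_yon o Qn.f z).symm⟩
          · rintro ⟨_, ⟨z, rfl⟩, rfl⟩
            exact ⟨z, ofPt_comp_yon o Qn.f z⟩
        have hgu : UniqueOver g Dᶜ := by
          refine fun T v v' e htD => ?_
          haveI : Mono o.left := inferInstanceAs (Mono (𝒰.f i))
          haveI : Mono o := (Over.forget S).mono_of_mono_map ‹Mono o.left›
          have e1 : ∀ w : T ⟶ O, (yon S).map (w ≫ o) ≫ Qn.f = (yon S).map w ≫ g := fun w => by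
            rw [Functor.map_comp, Category.assoc]
          refine (cancel_mono o).1 (huniq _ _ (by rw [e1, e1]; exact e) fun z => ?_)
          rw [e1]
          exact fun hz => htD z (hD ▸ Or.inl hz)
        refine ⟨D ∪ Set.range (AlgSp.Points.ofPt g), ?_, hDc.union (isCompact_range_ofPt hg),
          hDo.union (isOpen_range_ofPt hg),
          step D O g inferInstance hg hDc hDo
            (fun x hx => hD ▸ Or.inl (hE ▸ Or.inl hx)) hgu hQD⟩
        rw [hD, hgr, Finset.set_biUnion_insert, Set.image_union, Set.union_assoc,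
          Set.union_comm (AlgSp.Points.ofPt Qn.f '' _)]
    obtain ⟨D, hD, hDc, hDo, hQD⟩ := key t
    refine ⟨D, ?_, hDc, hDo, hQD⟩
    rw [hD, Set.eq_univ_of_univ_subset ht, Set.image_univ, Qn.range_ofPt, hE, Set.union_assoc,
      Set.union_eq_right.2 (confSet_antitone (Nat.le_succ (n + 1)))]

end Groth.AlgSp2.Induction
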