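import Groth.Agent.AlgSp2.Induction.ElemDist
import Groth.Agent.AlgSp2.DecencyDescent
import Groth.Agent.SpLimit.SpaceLiftIff

/-!
# The induction principle for quasi-compact quasi-separated algebraic spaces
-/

set_option autoImplicit false
set_option backward.isDefEq.respectTransparency.types false
set_option linter.style.haveILetI false
universe u

open CategoryTheory CategoryTheory.Limits AlgebraicGeometry Topology TopologicalSpace Opposite AlgSp Groth.AlgSpBasic

namespace Groth.AlgSp2.Induction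

noncomputable section

variable {S : Scheme.{u}} {X : AlgSp.Space S}

/-- A space etale over an object of `EtSpOver X`, as an object. -/
def subObj (W : EtSpOver X) {Y : AlgSp.Space S} (m : Y ⟶ W.obj.left) (hm : IsEtaleMor m.hom) : EtSpOver X :=
  ⟨Over.mk (m ≫ W.obj.hom), isEtaleMor_comp hm W.property⟩

/-- Its map. -/
def subHom (W : EtSpOver X) {Y : AlgSp.Space S} (m : Y ⟶ W.obj.left) (hm : IsEtaleMor m.hom) : subObj W m hm ⟶ W :=
  ObjectProperty.homMk (Over.homMk m rfl)

theorem isEtaleMor_of_openImmersion {Y Z : AlgSp.Space S} {j : Y.obj ⟶ Z.obj} (hj : RepWith @IsOpenImmersion j) :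
    IsEtaleMor j := fun _ _ hφ =>
  repWith_comp hφ (repWith_mono (fun _ _ g (_ : IsOpenImmersion g) => (inferInstance : Etale g)) hj)

theorem isEmbedding_map {Y Z : Sp S} {j : Y ⟶ Z} (hj : RepWith @IsOpenImmersion j) :
    IsEmbedding (AlgSp.Points.map j) := by
  haveI : Mono j := Groth.AlgSpBasic.mono_of_repWith (fun _ _ g (_ : IsOpenImmersion g) => inferInstance) hj
  exact (IsOpenEmbedding.of_continuous_injective_isOpenMap (AlgSp.Points.continuous_map _)
    (Groth.AlgSp2.map_injective_of_mono j)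
    (isOpenMap_map_of_repWith (fun _ _ φ (_ : IsOpenImmersion φ) => φ.isOpenMap) hj)).isEmbedding

theorem isQuasiCompactSp_of_range {Y : AlgSp.Space S} {Z : Sp S} {j : Y.obj ⟶ Z} (hj : RepWith @IsOpenImmersion j)
    (h : IsCompact (Set.range (AlgSp.Points.map j))) : IsQuasiCompactSp Y.obj :=
  (isQuasiCompactSp_iff_compactSpace Y.property).2
    ⟨(isEmbedding_map hj).isCompact_iff.2 (by rwa [Set.image_univ])⟩

theorem repWith_openImmersion_yon {A O : Over S} (a : A ⟶ O) [IsOpenImmersion a.left] :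
    RepWith @IsOpenImmersion ((yon S).map a) :=
  (repWith_yon_map_iff _ _).2 ‹IsOpenImmersion a.left›

/-- A space without points is the empty scheme. -/
theorem exists_iso_of_isEmpty {Y : AlgSp.Space S} [IsEmpty (AlgSp.Points Y.obj)] :
    ∃ T : Over S, IsAffine T.left ∧ Nonempty ((yon S).obj T ≅ Y.obj) := by
  obtain ⟨T, φ, he, hs⟩ := Y.property.atlas
  haveI : IsEmpty ↥T.left := Function.isEmpty (AlgSp.Points.ofPt φ)
  haveI : Epi φ :=
    haveI := isLocallySurjective_of_etale φ he hs
    inferInstance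
  haveI : Mono φ := ⟨fun {Z} z₁ z₂ _ => AlgSp2.hom_ext_yon fun T' z => by
    obtain ⟨v, hv⟩ := (yon S).map_surjective (z ≫ z₁)
    obtain ⟨v', hv'⟩ := (yon S).map_surjective (z ≫ z₂)
    haveI : IsEmpty ↥T'.left := Function.isEmpty v.left.base
    rw [← hv, ← hv', show v = v' from Over.OverMorphism.ext ((isInitialOfIsEmpty (X := T'.left)).hom_ext _ _)]⟩
  haveI := isIso_of_mono_of_epi φ
  exact ⟨T, inferInstance, ⟨asIso φ⟩⟩

variable (B P : EtSpOver X → Prop)
  (h2 : ∀ (W U : EtSpOver X) (j : U ⟶ W), B W → RepWith @IsOpenImmersion j.hom.left.hom →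
    IsQuasiCompactSp U.obj.left.obj → B U)
  (h3 : ∀ (V : EtSpOver X) (T : Over S), IsAffine T.left →
    Nonempty ((yon S).obj T ≅ V.obj.left.obj) → B V ∧ P V)
  (h4 : ∀ (W U V UV : EtSpOver X) (j : U ⟶ W) (f : V ⟶ W) (p : UV ⟶ U) (q : UV ⟶ V),
    B W → IsQuasiCompactSp U.obj.left.obj →
    (∃ T : Over S, IsAffine T.left ∧ Nonempty ((yon S).obj T ≅ V.obj.left.obj)) →
    IsElemDistSq j.hom.left.hom f.hom.left.hom →
    IsPullback p.hom.left.hom q.hom.left.hom j.hom.left.hom f.hom.left.hom →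
    P U → P V → P UV → P W)

include h2 h3 h4 in
/-- One step of the induction. -/
theorem step_elemDist (W : EtSpOver X) (hW : B W) {Y : AlgSp.Space S} (j : Y ⟶ W.obj.left)
    (hj : RepWith @IsOpenImmersion j.hom) (hYc : IsQuasiCompactSp Y.obj)
    {V : Over S} [IsAffine V.left] (g : (yon S).obj V ⟶ W.obj.left.obj) (hg : RepWith @Etale g)
    (hu : UniqueOver g (Set.range (AlgSp.Points.map j.hom))ᶜ)
    (hcov : (Set.range (AlgSp.Points.map j.hom))ᶜ ⊆ Set.range (AlgSp.Points.ofPt g))
    (hpre : IsCompact (AlgSp.Points.ofPt g ⁻¹' Set.range (AlgSp.Points.map j.hom)))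
    (hPY : P (subObj W j (isEtaleMor_of_openImmersion hj)))
    (hUV : ∀ (O : Over S) (o : O ⟶ V), IsOpenImmersion o.left → CompactSpace ↥O.left →
      Set.range o.left = AlgSp.Points.ofPt g ⁻¹' Set.range (AlgSp.Points.map j.hom) →
      ∀ W' : EtSpOver X, B W' → Nonempty ((yon S).obj O ≅ W'.obj.left.obj) → P W') : P W := by
  obtain ⟨O, o, fst, sq⟩ := hj.rep g
  haveI ho : IsOpenImmersion o.left := hj.property g fst o sq
  have hr : Set.range o.left = AlgSp.Points.ofPt g ⁻¹' Set.range (AlgSp.Points.map j.hom) := by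
    ext v
    constructor
    · rintro ⟨z, rfl⟩
      exact ⟨_, (map_eq_ofPt_iff sq _ _).2 ⟨z, rfl, rfl⟩⟩
    · rintro ⟨y, hy⟩
      obtain ⟨z, -, hz⟩ := (map_eq_ofPt_iff sq y v).1 hy
      exact ⟨z, hz⟩
  haveI : CompactSpace ↥O.left :=
    ⟨o.left.isOpenEmbedding.isEmbedding.isCompact_iff.2 (by rw [Set.image_univ, hr]; exact hpre)⟩
  have hge : IsEtaleMor g := (isElemDistSq_of_uniqueOver W.obj.left.property hj hg hu hcov).2.1
  let gV : (ofScheme S).obj V ⟶ W.obj.left := ObjectProperty.homMk g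
  let V' := subObj W gV hge
  let U' := subObj W j (isEtaleMor_of_openImmersion hj)
  let qO : (ofScheme S).obj O ⟶ V'.obj.left := ObjectProperty.homMk ((yon S).map o)
  have hqe : IsEtaleMor qO.hom := isEtaleMor_of_openImmersion (Y := (ofScheme S).obj O) (Z := (ofScheme S).obj V)
    (repWith_openImmersion_yon o)
  let UV := subObj V' qO hqe
  let q : UV ⟶ V' := subHom V' qO hqe
  let pO : (ofScheme S).obj O ⟶ Y := ObjectProperty.homMk fst
  let p : UV ⟶ U' := ObjectProperty.homMk (Over.homMk pO (by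
    show pO ≫ j ≫ W.obj.hom = qO ≫ gV ≫ W.obj.hom
    refine ObjectProperty.hom_ext _ ?_
    show fst ≫ j.hom ≫ W.obj.hom.hom = (yon S).map o ≫ g ≫ W.obj.hom.hom
    rw [← Category.assoc, sq.w, Category.assoc]))
  have hBV : B V' ∧ P V' := h3 V' V ‹_› ⟨Iso.refl _⟩
  have hBUV : B UV := h2 V' UV q hBV.1 (repWith_openImmersion_yon o) (Groth.AlgSp2.isQuasiCompactSp_yon O)
  exact h4 W U' V' UV (subHom W j _) (subHom W gV hge) p q hW hYc ⟨V, ‹_›, ⟨Iso.refl _⟩⟩
    (isElemDistSq_of_uniqueOver W.obj.left.property hj hg hu hcov) sq hPY hBV.2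
    (hUV O o ho inferInstance hr UV hBUV ⟨Iso.refl _⟩)

include h2 h3 h4 in
/-- The principle for quasi-compact opens of affine schemes. -/
theorem open_of_affine (n : ℕ) :
    ∀ (V O : Over S) (_ : IsAffine V.left) (o : O ⟶ V) (_ : IsOpenImmersion o.left) (f : Fin n → Γ(V.left, ⊤)),
      Set.range o.left = ⋃ i, (V.left.basicOpen (f i) : Set ↥V.left) →
      ∀ W : EtSpOver X, B W → Nonempty ((yon S).obj O ≅ W.obj.left.obj) → P W := by
  induction n with
  | zero =>
    intro V O _ o _ f hf W _ ⟨e⟩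
    haveI : IsEmpty ↥O.left := ⟨fun z => by
      have : o.left z ∈ Set.range o.left := ⟨z, rfl⟩
      rw [hf, Set.iUnion_of_empty] at this
      exact this⟩
    exact (h3 W O inferInstance ⟨e⟩).2
  | succ n ih =>
    intro V O _ o _ f hf W hW ⟨e⟩
    let D : O.left.Opens := o.left ⁻¹ᵁ ⨆ i : Fin n, V.left.basicOpen (f i.castSucc)
    let A : O.left.Opens := o.left ⁻¹ᵁ V.left.basicOpen (f (Fin.last n))
    have hsub : ∀ i, (V.left.basicOpen (f i) : Set ↥V.left) ⊆ Set.range o.left := fun i =>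
      hf ▸ Set.subset_iUnion (fun i => (V.left.basicOpen (f i) : Set ↥V.left)) i
    haveI : IsAffine (Over.mk (A.ι ≫ O.hom)).left := by
      refine (o.left.isAffineOpen_iff_of_isOpenImmersion (U := A)).1 ?_
      rw [show o.left ''ᵁ A = V.left.basicOpen (f (Fin.last n)) from
        TopologicalSpace.Opens.ext (Set.image_preimage_eq_of_subset (hsub _))]
      exact (isAffineOpen_top V.left).basicOpen _
    let iD : Over.mk (D.ι ≫ O.hom) ⟶ O := Over.homMk D.ι rfl
    let iA : Over.mk (A.ι ≫ O.hom) ⟶ O := Over.homMk A.ι rfl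
    haveI : IsOpenImmersion iD.left := inferInstanceAs (IsOpenImmersion D.ι)
    haveI : IsOpenImmersion iA.left := inferInstanceAs (IsOpenImmersion A.ι)
    have hD : Set.range (iD ≫ o).left = ⋃ i : Fin n, (V.left.basicOpen (f i.castSucc) : Set ↥V.left) := by
      rw [Over.comp_left, Scheme.Hom.comp_base, TopCat.coe_comp, Set.range_comp]
      show o.left '' Set.range D.ι = _
      rw [Scheme.Opens.range_ι]
      simp only [D, Scheme.Hom.coe_preimage, TopologicalSpace.Opens.coe_iSup]
      exact Set.image_preimage_eq_of_subset (Set.iUnion_subset fun i => hsub _)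
    have hDc : IsCompact (Set.range iD.left) := by
      refine o.left.isOpenEmbedding.isEmbedding.isCompact_iff.2 ?_
      rw [← Set.range_comp]
      have : Set.range (o.left ∘ iD.left) = _ := hD
      rw [this]
      exact isCompact_iUnion fun i => ((isAffineOpen_top V.left).basicOpen _).isCompact
    haveI : CompactSpace ↥(Over.mk (D.ι ≫ O.hom)).left :=
      ⟨iD.left.isOpenEmbedding.isEmbedding.isCompact_iff.2 (by rw [Set.image_univ]; exact hDc)⟩
    let YD : AlgSp.Space S := (ofScheme S).obj (Over.mk (D.ι ≫ O.hom))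
    let j : YD ⟶ W.obj.left := ObjectProperty.homMk ((yon S).map iD ≫ e.hom)
    have hj : RepWith @IsOpenImmersion j.hom :=
      repWith_comp (repWith_openImmersion_yon iD) (repWith_isIso e.hom)
    let g : (yon S).obj (Over.mk (A.ι ≫ O.hom)) ⟶ W.obj.left.obj := (yon S).map iA ≫ e.hom
    have hg : RepWith @Etale g :=
      repWith_comp ((repWith_yon_map_iff _ _).2 (inferInstance : Etale iA.left)) (repWith_isIso e.hom)
    have hptsj : ∀ z : ↥O.left, AlgSp.Points.ofPt e.hom z ∈ Set.range (AlgSp.Points.map j.hom) ↔ z ∈ D := fun z => by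
      constructor
      · rintro ⟨y, hy⟩
        obtain ⟨d, rfl⟩ := (AlgSp.Points.schemeEquiv (Over.mk (D.ι ≫ O.hom))).surjective y
        have h' : AlgSp.Points.ofPt e.hom (iD.left d) = AlgSp.Points.ofPt e.hom z := by
          rw [← ofPt_comp_yon, ofPt_eq_map]
          exact hy
        have hinj : Function.Injective (AlgSp.Points.ofPt e.hom) := fun s t hst => by
          rw [ofPt_eq_map, ofPt_eq_map] at hst
          exact (AlgSp.Points.schemeHomeo O).injective (Groth.AlgSp2.map_injective_of_mono e.hom hst)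
        exact hinj h' ▸ d.2
      · intro hz
        exact ⟨AlgSp.Points.ofScheme (Over.mk (D.ι ≫ O.hom)) ⟨z, hz⟩, (ofPt_eq_map _ _).symm.trans (ofPt_comp_yon iD e.hom _)⟩
    have hpre : AlgSp.Points.ofPt g ⁻¹' Set.range (AlgSp.Points.map j.hom) = iA.left ⁻¹' (D : Set ↥O.left) := by
      ext z
      rw [Set.mem_preimage, ofPt_comp_yon, hptsj]
      rfl
    let f' : Fin n → Γ((Over.mk (A.ι ≫ O.hom)).left, ⊤) := fun i => (iA ≫ o).left.appTop (f i.castSucc)
    have hf' : iA.left ⁻¹' (D : Set ↥O.left) = ⋃ i, ((Over.mk (A.ι ≫ O.hom)).left.basicOpen (f' i) : Set _) := by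
      ext z
      simp only [D, f', Scheme.Hom.coe_preimage, TopologicalSpace.Opens.coe_iSup, Set.mem_preimage, Set.mem_iUnion]
      refine exists_congr fun i => ?_
      rw [← Scheme.preimage_basicOpen_top]
      rfl
    refine step_elemDist B P h2 h3 h4 W hW j hj (Groth.AlgSp2.isQuasiCompactSp_yon _) g hg ?_ ?_ ?_ ?_ ?_
    · intro T v v' hvv _
      haveI : Mono iA.left := inferInstanceAs (Mono A.ι)
      haveI : Mono iA := (Over.forget S).mono_of_mono_map ‹Mono iA.left›
      exact (cancel_mono iA).1 ((yon S).map_injective (by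
        rw [Functor.map_comp, Functor.map_comp, ← cancel_mono e.hom, Category.assoc, Category.assoc]; exact hvv))
    · intro y hy
      obtain ⟨z, rfl⟩ : ∃ z, AlgSp.Points.ofPt e.hom z = y :=
        surjective_ofPt_of_repWith (repWith_isIso e.hom) y
      obtain ⟨i, hi⟩ := Set.mem_iUnion.1 ((Set.ext_iff.1 hf (o.left z)).1 ⟨z, rfl⟩)
      induction i using Fin.lastCases with
      | last => exact ⟨⟨z, hi⟩, ofPt_comp_yon iA e.hom _⟩
      | cast i => exact absurd ((hptsj z).2 (TopologicalSpace.Opens.mem_iSup.2 ⟨i, hi⟩)) hy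
    · rw [hpre, hf']
      exact isCompact_iUnion fun i => ((isAffineOpen_top _).basicOpen _).isCompact
    · haveI : IsOpenImmersion (iD ≫ o).left := by rw [Over.comp_left]; infer_instance
      exact ih V _ ‹_› (iD ≫ o) inferInstance (fun i => f i.castSucc) hD _
        (h2 W _ (subHom W j _) hW hj (Groth.AlgSp2.isQuasiCompactSp_yon _)) ⟨Iso.refl _⟩
    · intro O' o' ho' _ hr W' hW' he'
      exact ih _ O' inferInstance o' ho' f' (hr.trans (hpre.trans hf')) W' hW' he'

include h2 h3 h4 in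
/-- The induction principle. -/
theorem induction_principle [QuasiSeparatedSpace ↥S]
    (h1 : ∀ W, B W → IsQuasiCompactSp W.obj.left.obj ∧ IsQuasiSeparatedSp W.obj.left.obj) :
    ∀ W : EtSpOver X, B W → P W := by
  intro W hW
  obtain ⟨hWc, hWs⟩ := h1 W hW
  have key : ∀ D : Set (AlgSp.Points W.obj.left.obj), IsCompact D → IsOpen D →
      (∀ (U : EtSpOver X) (k : U ⟶ W), RepWith @IsOpenImmersion k.hom.left.hom →
        Set.range (AlgSp.Points.map k.hom.left.hom) = D → P U) →
      ∀ (V : Over S) (g : (yon S).obj V ⟶ W.obj.left.obj), IsAffine V.left → RepWith @Etale g → UniqueOver g Dᶜ →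
      ∀ (U : EtSpOver X) (k : U ⟶ W), RepWith @IsOpenImmersion k.hom.left.hom →
        Set.range (AlgSp.Points.map k.hom.left.hom) = D ∪ Set.range (AlgSp.Points.ofPt g) → P U := by
    intro D hDc hDo hPD V g _ hg hu U k hk hkr
    let j₂ := k.hom.left.hom
    haveI : Mono j₂ := Groth.AlgSpBasic.mono_of_repWith (fun _ _ g (_ : IsOpenImmersion g) => inferInstance) hk
    have hUc : IsQuasiCompactSp U.obj.left.obj :=
      isQuasiCompactSp_of_range hk (hkr ▸ hDc.union (isCompact_range_ofPt hg))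
    have hBU : B U := h2 W U k hW hk hUc
    obtain ⟨hUc', hUs⟩ := h1 U hBU
    obtain ⟨O, o, fst, sq⟩ := hk.rep g
    haveI : IsOpenImmersion o.left := hk.property g fst o sq
    haveI : Surjective o.left := ⟨fun v => by
      obtain ⟨y, hy⟩ := hkr.ge (Or.inr ⟨v, rfl⟩)
      obtain ⟨z, -, hz⟩ := (map_eq_ofPt_iff sq y v).1 hy
      exact ⟨z, hz⟩⟩
    haveI : IsIso o.left := (isIso_iff_isOpenImmersion_and_surjective o.left).2 ⟨‹_›, ‹_›⟩
    haveI : IsIso ((Over.forget S).map o) := ‹IsIso o.left›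
    haveI : IsIso o := isIso_of_reflects_iso o (Over.forget S)
    let g₂ : (yon S).obj V ⟶ U.obj.left.obj := (yon S).map (inv o) ≫ fst
    have hg₂ : g₂ ≫ j₂ = g := by
      rw [Category.assoc, sq.w, ← Category.assoc, ← Functor.map_comp, IsIso.inv_hom_id, CategoryTheory.Functor.map_id,
        Category.id_comp]
    have hg₂e : RepWith @Etale g₂ :=
      repWith_of_isPullback (isPullback_id_of_mono g₂ j₂) (hg₂.symm ▸ hg)
    have hinj : Function.Injective (AlgSp.Points.map j₂) := Groth.AlgSp2.map_injective_of_mono j₂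
    let D₂ : Set (AlgSp.Points U.obj.left.obj) := AlgSp.Points.map j₂ ⁻¹' D
    have hD₂o : IsOpen D₂ := hDo.preimage (AlgSp.Points.continuous_map _)
    have hD₂c : IsCompact D₂ := (isEmbedding_map hk).isCompact_iff.2 (by
      rw [Set.image_preimage_eq_of_subset (hkr ▸ Set.subset_union_left)]; exact hDc)
    let Y : AlgSp.Space S := ⟨openSub U.obj.left.obj D₂, isAlgSpace_openSub U.obj.left.property hD₂o⟩
    let jY : Y ⟶ U.obj.left := ObjectProperty.homMk (openSubι U.obj.left.obj D₂)
    have hjY : RepWith @IsOpenImmersion jY.hom := repWith_openSubι hD₂o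
    have hrY : Set.range (AlgSp.Points.map jY.hom) = D₂ := range_map_openSubι
    refine step_elemDist B P h2 h3 h4 U hBU jY hjY (isQuasiCompactSp_of_range hjY (hrY ▸ hD₂c)) g₂ hg₂e ?_ ?_ ?_ ?_ ?_
    · rw [hrY]
      refine fun T v v' e ht => hu v v' (by rw [← hg₂, ← Category.assoc, e, Category.assoc]) fun t hD => ht t ?_
      show AlgSp.Points.map j₂ _ ∈ D
      rw [AlgSp.Points.map_ofPt, Category.assoc, hg₂]
      exact hD
    · rw [hrY]
      intro y hy
      rcases hkr.le ⟨y, rfl⟩ with h | ⟨v, hv⟩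
      · exact absurd h hy
      · refine ⟨v, hinj ?_⟩
        rw [AlgSp.Points.map_ofPt, hg₂, hv]
    · rw [hrY]
      exact isCompact_preimage_ofPt U.obj.left.property hUs hD₂c hD₂o g₂
    · refine hPD _ (subHom U jY (isEtaleMor_of_openImmersion hjY) ≫ k) ?_ ?_
      · exact repWith_comp hjY hk
      · show Set.range (AlgSp.Points.map (jY.hom ≫ j₂)) = D
        rw [show AlgSp.Points.map (jY.hom ≫ j₂) = AlgSp.Points.map j₂ ∘ AlgSp.Points.map jY.hom from
          funext fun y => AlgSp.Points.map_comp _ _ y, Set.range_comp, hrY,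
          Set.image_preimage_eq_of_subset (hkr ▸ Set.subset_union_left)]
    · intro O' o' ho' hc hr W' hW' he'
      obtain ⟨s, hs⟩ := (isCompact_and_isOpen_iff_finite_and_eq_biUnion_basicOpen (X := V.left)).1
        ⟨isCompact_range o'.left.continuous, o'.left.isOpenEmbedding.isOpen_range⟩
      classical
      obtain ⟨n, f, hf⟩ : ∃ (n : ℕ) (f : Fin n → Γ(V.left, ⊤)), Set.range f = s :=
        ⟨_, fun i => (hs.1.toFinset.equivFin.symm i).1, by
          ext x
          simp only [Set.mem_range]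
          exact ⟨fun ⟨i, hi⟩ => hi ▸ hs.1.mem_toFinset.1 (hs.1.toFinset.equivFin.symm i).2,
            fun hx => ⟨hs.1.toFinset.equivFin ⟨x, hs.1.mem_toFinset.2 hx⟩, by simp⟩⟩⟩
      refine open_of_affine B P h2 h3 h4 n V O' ‹_› o' ho' f ?_ W' hW' he'
      rw [hs.2, ← hf, Set.biUnion_range]
  have := induction_compactOpen W.obj.left.property hWc hWs
    (fun D => ∀ (U : EtSpOver X) (k : U ⟶ W), RepWith @IsOpenImmersion k.hom.left.hom →
      Set.range (AlgSp.Points.map k.hom.left.hom) = D → P U) ∅ isCompact_empty isOpen_empty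
    (fun U k hk hr => by
      haveI : IsEmpty (AlgSp.Points U.obj.left.obj) := ⟨fun y => (Set.ext_iff.1 hr _).1 ⟨y, rfl⟩⟩
      obtain ⟨T, hT, e⟩ := exists_iso_of_isEmpty (Y := U.obj.left)
      exact (h3 U T hT e).2)
    (fun D V g hV hg hDc hDo _ hu hQ => key D hDc hDo hQ V g hV hg hu)
  refine this W (𝟙 W) ?_ ?_
  · show RepWith @IsOpenImmersion (𝟙 W.obj.left.obj); exact repWith_isIso (𝟙 _)
  · exact Set.range_eq_univ.2 fun y => ⟨y, AlgSp.Points.map_id y⟩

end

end Groth.AlgSp2.Induction
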