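import Groth.Agent.AlgSp2.Induction.Chain
import Groth.Agent.AlgSp2.Locality

/-!
# Elementary distinguished squares from charts unique over a closed subset
-/

set_option autoImplicit false
set_option backward.isDefEq.respectTransparency.types false
set_option linter.style.haveILetI false
universe u

open CategoryTheory CategoryTheory.Limits AlgebraicGeometry Topology TopologicalSpace Opposite AlgSp Groth.AlgSpBasic

namespace Groth.AlgSp2.Induction

variable {S : Scheme.{u}} {X : Sp S}

/-- An open immersion onto `D` and an etale chart unique over and covering the complement form an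
elementary distinguished square. -/
theorem isElemDistSq_of_uniqueOver (hX : IsAlgSpace X) {U : Sp S} {j : U ⟶ X} (hj : RepWith @IsOpenImmersion j)
    {V : Over S} {g : (yon S).obj V ⟶ X} (hg : RepWith @Etale g)
    (hu : UniqueOver g (Set.range (AlgSp.Points.map j))ᶜ)
    (hcov : (Set.range (AlgSp.Points.map j))ᶜ ⊆ Set.range (AlgSp.Points.ofPt g)) :
    IsElemDistSq j g := by
  have hge : IsEtaleMor g := fun U' φ hφ => by
    obtain ⟨k, rfl⟩ := (yon S).map_surjective φ
    have hk : Etale k.left := (repWith_yon_map_iff _ _).1 hφ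
    exact repWith_comp ((repWith_yon_map_iff _ _).2 hk) hg
  refine ⟨hj, hge, ?_⟩
  have hr : IsOpen (Set.range (AlgSp.Points.map j)) := (isOpenMap_map_of_repWith (fun _ _ φ (_ : IsOpenImmersion φ) => φ.isOpenMap) hj).isOpen_range
  obtain ⟨T, i, hT, hi⟩ := AlgSp3.exists_isRedInduced hX hr.isClosed_compl
  obtain ⟨W, q₂, q₁, sq₀⟩ := hi.1.rep g
  let P := (yon S).obj W
  let p₁ : P ⟶ T := q₁
  let p₂ : P ⟶ (yon S).obj V := (yon S).map q₂
  have sq : IsPullback p₁ p₂ i g := sq₀
  refine ⟨T, P, i, p₁, p₂, hi, sq, ?_⟩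
  have he : RepWith @Etale p₁ := repWith_of_isPullback sq.flip hg
  have hsurj : RepWith @Surjective p₁ := repWith_surjective_of_ofPt he.rep fun y => by
    obtain ⟨v, hv⟩ := hcov (hi.2.1.le ⟨y, rfl⟩)
    obtain ⟨w, hw, -⟩ := (map_eq_ofPt_iff sq₀ y v).1 hv.symm
    exact ⟨w, hw⟩
  have := isLocallySurjective_of_etale p₁ he hsurj
  have : Epi p₁ := inferInstance
  have : Mono p₁ := ⟨fun {Z} z₁ z₂ e => AlgSp2.hom_ext_yon fun T' z => by
    obtain ⟨v, hv⟩ := (yon S).map_surjective ((z ≫ z₁) ≫ p₂)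
    obtain ⟨v', hv'⟩ := (yon S).map_surjective ((z ≫ z₂) ≫ p₂)
    have h₁ : (yon S).map v ≫ g = ((z ≫ z₁) ≫ p₁) ≫ i := by
      rw [hv, Category.assoc, Category.assoc, ← sq.w]; rfl
    have h₂ : (yon S).map v' ≫ g = ((z ≫ z₁) ≫ p₁) ≫ i := by
      rw [hv', Category.assoc, Category.assoc, ← sq.w, Category.assoc z z₁, e]
      simp only [Category.assoc]
    have hvv : v = v' := hu v v' (h₁.trans h₂.symm) fun t => by
      rw [h₁, ← AlgSp.Points.map_ofPt]
      exact hi.2.1.le ⟨_, rfl⟩
    apply sq.hom_ext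
    · simp only [Category.assoc, e]
    · rw [← hv, ← hv', hvv]⟩
  exact isIso_of_mono_of_epi p₁

end Groth.AlgSp2.Induction
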