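import Groth.Agent.AlgSp2.Induction.Principle

/-!
# Induction over open subspaces containing a given one
-/

set_option autoImplicit false
set_option backward.isDefEq.respectTransparency.types false
set_option linter.style.haveILetI false
universe u

open CategoryTheory CategoryTheory.Limits AlgebraicGeometry Topology TopologicalSpace Opposite AlgSp Groth.AlgSpBasic

namespace Groth.AlgSp2.Induction

noncomputable section

variable {S : Scheme.{u}}

/-- A map with all points in `D` factors through the open subspace on `D`. -/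
theorem exists_lift_openSub {Y X : Sp S} (f : Y ⟶ X) {D : Set (AlgSp.Points X)}
    (h : Set.range (AlgSp.Points.map f) ⊆ D) : ∃ k : Y ⟶ openSub X D, k ≫ openSubι X D = f := by
  have hf : Subfunctor.range f.hom ≤ openSubfunctor X D := by
    rintro T _ ⟨x, rfl⟩ t
    have e : yEquiv.symm (f.hom.app T x) = yEquiv.symm x ≫ f :=
      ((J S).uliftYonedaEquiv_symm_naturality_right (unop T) f x).symm
    rw [e, ← AlgSp.Points.map_ofPt]
    exact h ⟨_, rfl⟩
  exact ⟨ObjectProperty.homMk (Subfunctor.lift f.hom hf), ObjectProperty.hom_ext _ (Subfunctor.lift_ι f.hom hf)⟩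

/-- A morphism from an empty affine scheme that is etale. -/
theorem exists_empty_chart {X : Sp S} (hX : IsAlgSpace X) :
    ∃ (E : Over S) (g : (yon S).obj E ⟶ X), IsEmpty ↥E.left ∧ RepWith @Etale g := by
  obtain ⟨T, φ, he, -⟩ := hX.atlas
  let U : T.left.Opens := ⊥
  let i : Over.mk (U.ι ≫ T.hom) ⟶ T := Over.homMk U.ι rfl
  refine ⟨Over.mk (U.ι ≫ T.hom), (yon S).map i ≫ φ, ⟨fun z => z.2⟩,
    repWith_comp ((repWith_yon_map_iff _ _).2 (inferInstanceAs (Etale U.ι))) he⟩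

/-- Induction on the open subspaces containing a given quasi-compact one. -/
theorem openSubspace_induction [QuasiSeparatedSpace ↥S] (X : AlgSp.Space S)
    (hXc : AlgSp.IsQuasiCompactSp X.obj) (hXs : AlgSp.IsQuasiSeparatedSp X.obj)
    (P : ∀ U : AlgSp.Space S, (U ⟶ X) → Prop)
    (W : AlgSp.Space S) (jW : W ⟶ X) (hjW : AlgSp.RepWith @IsOpenImmersion jW.hom)
    (hWc : AlgSp.IsQuasiCompactSp W.obj) (h1 : P W jW)
    (h2 : ∀ (W₁ W₂ V : AlgSp.Space S) (j₁ : W₁ ⟶ X) (j₂ : W₂ ⟶ X) (k : W₁ ⟶ W₂) (m : W ⟶ W₁) (f : V ⟶ W₂),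
      AlgSp.RepWith @IsOpenImmersion j₁.hom → AlgSp.RepWith @IsOpenImmersion j₂.hom →
      k ≫ j₂ = j₁ → m ≫ j₁ = jW →
      AlgSp.IsQuasiCompactSp W₁.obj → AlgSp.IsQuasiCompactSp W₂.obj →
      (∃ T : Over S, IsAffine T.left ∧ Nonempty ((AlgSp.yon S).obj T ≅ V.obj)) →
      AlgSp.IsElemDistSq k.hom f.hom → P W₁ j₁ → P W₂ j₂) :
    P X (𝟙 X) := by
  haveI : CompactSpace (AlgSp.Points W.obj) := (isQuasiCompactSp_iff_compactSpace W.property).1 hWc
  have hcW : IsCompact (Set.range (AlgSp.Points.map jW.hom)) := isCompact_range (AlgSp.Points.continuous_map _)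
  have hoW : IsOpen (Set.range (AlgSp.Points.map jW.hom)) :=
    (isOpenMap_map_of_repWith (fun _ _ φ (_ : IsOpenImmersion φ) => φ.isOpenMap) hjW).isOpen_range
  let Q : Set (AlgSp.Points X.obj) → Prop := fun D => ∃ (W₁ : AlgSp.Space S) (j₁ : W₁ ⟶ X) (m : W ⟶ W₁),
    RepWith @IsOpenImmersion j₁.hom ∧ m ≫ j₁ = jW ∧ IsQuasiCompactSp W₁.obj ∧
      Set.range (AlgSp.Points.map j₁.hom) = D ∧ P W₁ j₁
  have hQ : Q Set.univ := by
    refine induction_compactOpen X.property hXc hXs Q _ hcW hoW ⟨W, jW, 𝟙 W, hjW, Category.id_comp _, hWc, rfl, h1⟩ ?_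
    rintro D V g _ hg hDc hDo - hu ⟨W₁, j₁, m, hj₁, hm, hW₁c, hr, hP⟩
    let D' := D ∪ Set.range (AlgSp.Points.ofPt g)
    have hD'o : IsOpen D' := hDo.union (isOpen_range_ofPt hg)
    let W₂ : AlgSp.Space S := ⟨openSub X.obj D', isAlgSpace_openSub X.property hD'o⟩
    let j₂ : W₂ ⟶ X := ObjectProperty.homMk (openSubι X.obj D')
    have hj₂ : RepWith @IsOpenImmersion j₂.hom := repWith_openSubι hD'o
    have hr₂ : Set.range (AlgSp.Points.map j₂.hom) = D' := range_map_openSubι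
    have hW₂c : IsQuasiCompactSp W₂.obj :=
      isQuasiCompactSp_of_range hj₂ (hr₂ ▸ hDc.union (isCompact_range_ofPt hg))
    haveI : Mono j₂.hom := Groth.AlgSpBasic.mono_of_repWith (fun _ _ g (_ : IsOpenImmersion g) => inferInstance) hj₂
    obtain ⟨k, hk⟩ := exists_lift_openSub j₁.hom (D := D') (hr ▸ Set.subset_union_left)
    obtain ⟨g₂, hg₂⟩ := (openSub_exists_lift_iff X.obj D' g).2 fun t => Or.inr ⟨t, rfl⟩
    have hg₂e : RepWith @Etale g₂ := repWith_of_isPullback (isPullback_id_of_mono g₂ j₂.hom) (hg₂.symm ▸ hg)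
    have hke : RepWith @IsOpenImmersion k := repWith_of_isPullback (isPullback_id_of_mono k j₂.hom) (hk.symm ▸ hj₁)
    have hinj : Function.Injective (AlgSp.Points.map j₂.hom) := Groth.AlgSp2.map_injective_of_mono j₂.hom
    let V' : AlgSp.Space S := (ofScheme S).obj V
    let f : V' ⟶ W₂ := ObjectProperty.homMk g₂
    let k' : W₁ ⟶ W₂ := ObjectProperty.homMk k
    have hkj : k' ≫ j₂ = j₁ := ObjectProperty.hom_ext _ hk
    have hkD : ∀ y, AlgSp.Points.map j₂.hom y ∈ D → y ∈ Set.range (AlgSp.Points.map k) := by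
      intro y hy
      obtain ⟨z, hz⟩ := hr.ge hy
      refine ⟨z, hinj ?_⟩
      rw [← AlgSp.Points.map_comp, show k ≫ j₂.hom = j₁.hom from hk, hz]
    refine ⟨W₂, j₂, m ≫ k', hj₂, by rw [Category.assoc, hkj, hm], hW₂c, hr₂, ?_⟩
    refine h2 W₁ W₂ V' j₁ j₂ k' m f hj₁ hj₂ hkj hm hW₁c hW₂c ⟨V, ‹_›, ⟨Iso.refl _⟩⟩
      (isElemDistSq_of_uniqueOver W₂.property hke hg₂e ?_ ?_) hP
    · intro T v v' (e : (yon S).map v ≫ g₂ = (yon S).map v' ≫ g₂) ht
      refine hu v v' ?_ fun t hD => ht t (hkD _ ?_)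
      · rw [← hg₂, ← Category.assoc, e, Category.assoc]
      · rw [AlgSp.Points.map_ofPt, Category.assoc]
        exact hg₂.symm ▸ hD
    · intro y hy
      rcases hr₂.le ⟨y, rfl⟩ with h | ⟨v, hv⟩
      · exact absurd (hkD y h) hy
      · refine ⟨v, hinj ?_⟩
        rw [AlgSp.Points.map_ofPt]
        exact hg₂.symm ▸ hv
  obtain ⟨W₁, j₁, m, hj₁, hm, hW₁c, hr, hP⟩ := hQ
  obtain ⟨E, g, hE, hg⟩ := exists_empty_chart X.property
  let f : (ofScheme S).obj E ⟶ X := ObjectProperty.homMk g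
  refine h2 W₁ X _ j₁ (𝟙 X) j₁ m f hj₁ (repWith_isIso (𝟙 X.obj)) (Category.comp_id _) hm hW₁c hXc
    ⟨E, inferInstance, ⟨Iso.refl _⟩⟩ (isElemDistSq_of_uniqueOver X.property hj₁ hg ?_ ?_) hP
  · intro T v v' _ _
    haveI : IsEmpty ↥T.left := Function.isEmpty v.left.base
    exact Over.OverMorphism.ext ((isInitialOfIsEmpty (X := T.left)).hom_ext _ _)
  · rw [hr]; simp

end

end Groth.AlgSp2.Induction
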